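import Cfsg.Agent.H756.HM.Stmts
import Cfsg.Agent.H752.Ext
import Cfsg.Agent.H781.NormSys
import Cfsg.Agent.H802.FusKSat
import Cfsg.Agent.H759.FusSolvable

/-!
# S5175, T2: chains of strongly closed subgroups in local subsystems (helper35)
-/

set_option autoImplicit false

namespace Cfsg.Agent.H35.HM

open Cfsg Cfsg.FusionSystem Cfsg.Agent.H752 Cfsg.Agent.H756.HM
open scoped commutatorElement

universe u

theorem chainN : StChainN.{u} := by
  intro Ω _ S _ hS F hF hmin U hU hne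
  have : Fact (Nat.Prime 2) := ⟨Nat.prime_two⟩
  have hE := H781.isNormalizerSystem_normSys F U hU.1
  have hfin : Finite (normalizerIn S U) := H802.finite_of_le inf_le_left
  have hsat : (H781.normSys F U hU.1).IsSaturated 2 := H802.normalizerSystem_isSaturated hS hF hU hE
  have hNp : IsPGroup 2 (normalizerIn S U) := hS.to_le inf_le_left
  obtain ⟨n, c, h0, hn, hsc, hmono, hc⟩ := H759.hasChain_of_isSolvableSystem hNp hsat
    (hmin U hne hU _ hE) ⊥ H759.StronglyClosed.bot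
  refine ⟨n, c, h0, hn, monotone_nat_of_le_succ hmono, hc, fun i P hP φ hφ x => ?_⟩
  exact (hsc i).2 P hP φ hφ x

theorem chain : StChain.{u} := by
  intro Ω _ S _ hS F hF hmin U hUS hne
  have : Fact (Nat.Prime 2) := ⟨Nat.prime_two⟩
  obtain ⟨U', ⟨φ, hφ, hφr⟩, hU'⟩ := H802.exists_isFullyNormalized hS hF hUS
  obtain ⟨β, hβ, ψ, hψ, h1, h2⟩ := H802.exists_extension_normalizer hS hF hφ hφr hU'
  have hne' : U' ≠ ⊥ := by
    intro h
    apply hne
    have h3 : Nat.card U = 1 := by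
      rw [H802.isConj_card_eq ⟨φ, hφ, hφr⟩, h, Subgroup.card_bot]
    exact Subgroup.card_eq_one.1 h3
  obtain ⟨n, c, h0, hn, hmono, hc, hcl⟩ := chainN hS F hF hmin U' hU' hne'
  -- the map `f : N_S(U) → N_S(U')`
  set f : Ω → Ω := ex ψ with hf
  have hfM : Mp F (normalizerIn S U) f := mp_ex hψ
  have hfψ : ∀ x : normalizerIn S U, ψ x = f x := fun x => (ex_coe (ψ : normalizerIn S U → Ω) x).symm
  have hfN : ∀ x ∈ normalizerIn S U, f x ∈ normalizerIn S U' := fun x hx => by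
    rw [← hfψ ⟨x, hx⟩]; exact h2 _
  have hUN : U ≤ normalizerIn S U := H802.le_normalizerIn hUS
  have hCN : centralizerIn S U ≤ normalizerIn S U :=
    inf_le_inf_left _ (Subgroup.centralizer_le_normalizer _)
  have hφm : ∀ x : U, φ x ∈ U' := fun x => hφr.le ⟨x, rfl⟩
  have hfU : ∀ x ∈ U, f x ∈ U' := by
    intro x hx
    rw [← hfψ ⟨x, hUN hx⟩, h1 ⟨x, hx⟩ (hφm _)]
    exact (β _).2
  have hfinU' : Finite U' := H802.finite_of_le hU'.1
  -- the image of `U` is `U'`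
  have hfU' : ∀ y ∈ U', ∃ x ∈ U, f x = y := by
    obtain ⟨T, hT, -, hTc⟩ := hfM.exists_image hUN
    have hTU : T ≤ U' := by
      intro y hy
      obtain ⟨x, hx, rfl⟩ := (hT y).1 hy
      exact hfU x hx
    have hTe : T = U' := Subgroup.eq_of_le_of_card_ge hTU
      (by rw [hTc, H802.isConj_card_eq ⟨φ, hφ, hφr⟩])
    intro y hy
    rw [← hTe] at hy
    exact (hT y).1 hy
  -- the chain
  let C : ℕ → Subgroup Ω := fun i => ((c i).comap ψ).map (normalizerIn S U).subtype ⊓ centralizerIn S U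
  have hC : ∀ i x, x ∈ C i ↔ x ∈ centralizerIn S U ∧ f x ∈ c i := by
    intro i x
    constructor
    · rintro ⟨⟨y, hy, rfl⟩, hx⟩
      refine ⟨hx, ?_⟩
      show f (y : Ω) ∈ c i
      rw [← hfψ y]
      exact hy
    · rintro ⟨hx, hy⟩
      refine ⟨⟨⟨x, hCN hx⟩, ?_, rfl⟩, hx⟩
      show ψ ⟨x, hCN hx⟩ ∈ c i
      rw [hfψ]
      exact hy
  refine ⟨n, C, ?_, ?_, ?_, ?_, ?_⟩
  · rw [eq_bot_iff]
    intro x hx
    rw [hC, h0, Subgroup.mem_bot] at hx
    exact Subgroup.mem_bot.2 (hfM.inj (hCN hx.1) (one_mem _) (by rw [hx.2, hfM.one]))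
  · ext x
    rw [hC, hn]
    exact ⟨fun h => h.1, fun h => ⟨h, hfN x (hCN h)⟩⟩
  · intro i j hij x hx
    rw [hC] at hx ⊢
    exact ⟨hx.1, hmono hij hx.2⟩
  · intro i
    rw [Subgroup.commutator_le]
    intro x hx y hy
    rw [hC] at hx hy ⊢
    have hxN := hCN hx.1
    have hyN := hCN hy.1
    refine ⟨mul_mem (mul_mem (mul_mem hx.1 hy.1) (inv_mem hx.1)) (inv_mem hy.1), ?_⟩
    rw [commutatorElement_def, hfM.mul (mul_mem (mul_mem hxN hyN) (inv_mem hxN)) (inv_mem hyN),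
      hfM.mul (mul_mem hxN hyN) (inv_mem hxN), hfM.mul hxN hyN, hfM.inv hxN, hfM.inv hyN,
      ← commutatorElement_def]
    exact hc i (Subgroup.commutator_mem_commutator hx.2 hy.2)
  · intro i P hP χ hχ x
    obtain ⟨hχF, hPC, hχC, ω, hω, hω1, hω2⟩ := hχ
    rw [hC]
    refine ⟨hχC x, ?_⟩
    -- `P ⊔ U ≤ N_S(U)`
    have hPN : P ≤ normalizerIn S U := hPC.trans hCN
    have hPUN : P ⊔ U ≤ normalizerIn S U := sup_le hPN hUN
    set g : Ω → Ω := ex ω with hg
    have hgM : Mp F (P ⊔ U) g := mp_ex hω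
    have hg1 : ∀ x (hx : x ∈ P), g x = χ ⟨x, hx⟩ := by
      intro x hx
      rw [← hω1 ⟨x, hx⟩]
      exact ex_apply (ω : (P ⊔ U : Subgroup Ω) → Ω) (Subgroup.mem_sup_left hx)
    have hg2 : ∀ x ∈ U, g x = x := by
      intro x hx
      have h3 := hω2 ⟨x, hx⟩
      rw [hg, ex_apply (ω : (P ⊔ U : Subgroup Ω) → Ω) (Subgroup.mem_sup_right hx)]
      exact h3
    have hgN : ∀ x ∈ P ⊔ U, g x ∈ normalizerIn S U :=
      hgM.mem_sup (fun x hx => by rw [hg1 x hx]; exact hCN (hχC _)) (fun x hx => by rw [hg2 x hx]; exact hUN hx)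
    -- images
    obtain ⟨P', hP', -, -⟩ := hfM.exists_image hPN
    obtain ⟨R, hR, -, -⟩ := hfM.exists_image hPUN
    have hRe : R = P' ⊔ U' := by
      apply le_antisymm
      · intro y hy
        obtain ⟨x, hx, rfl⟩ := (hR y).1 hy
        refine (hfM.res hPUN).mem_sup (fun x hx => ?_) (fun x hx => ?_) x hx
        · exact Subgroup.mem_sup_left ((hP' _).2 ⟨x, hx, rfl⟩)
        · exact Subgroup.mem_sup_right (hfU x hx)
      · rw [sup_le_iff]
        constructor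
        · intro y hy
          obtain ⟨x, hx, rfl⟩ := (hP' y).1 hy
          exact (hR _).2 ⟨x, Subgroup.mem_sup_left hx, rfl⟩
        · intro y hy
          obtain ⟨x, hx, rfl⟩ := hfU' y hy
          exact (hR _).2 ⟨x, Subgroup.mem_sup_right hx, rfl⟩
    obtain ⟨k, hk, hk1, hk2⟩ := hfM.exists_symm hPUN hR
    -- the transported map `f ∘ g ∘ k` on `P' ⊔ U'`
    have hM : Mp F R (fun y => f (g (k y))) :=
      (hk.comp hgM fun y hy => (hk2 y hy).1).comp hfM fun y hy => hgN _ (hk2 y hy).1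
    rw [hRe] at hM
    obtain ⟨τ, hτ, hτe'⟩ := hM
    have hτe : ∀ (x : Ω) (hx : x ∈ P' ⊔ U'), τ ⟨x, hx⟩ = f (g (k x)) := hτe'
    have hfx : f x ∈ P' := (hP' _).2 ⟨x, x.2, rfl⟩
    have hmem : τ.comp (Subgroup.inclusion (le_sup_left : P' ≤ P' ⊔ U')) ∈ F.normalizerHom U' P' := by
      have hval : ∀ (x : Ω) (hx : x ∈ P) (hx' : f x ∈ P'),
          (τ.comp (Subgroup.inclusion (le_sup_left : P' ≤ P' ⊔ U'))) ⟨f x, hx'⟩ = f (χ ⟨x, hx⟩) := by
        intro x hx hx'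
        show τ ⟨f x, _⟩ = _
        rw [hτe, hk1 x (Subgroup.mem_sup_left hx), hg1 x hx]
      refine ⟨H802.restrict_mem hτ _, ?_, ?_, τ, hτ, fun _ => rfl, ?_⟩
      · intro y hy
        obtain ⟨x, hx, rfl⟩ := (hP' y).1 hy
        exact hfN x (hPN hx)
      · rintro ⟨y, hy⟩
        obtain ⟨x, hx, rfl⟩ := (hP' y).1 hy
        rw [hval x hx hy]
        exact hfN _ (hCN (hχC _))
      · have hval2 : ∀ (x : Ω) (hx : x ∈ U) (hx' : f x ∈ P' ⊔ U'), τ ⟨f x, hx'⟩ = f x := by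
          intro x hx hx'
          rw [hτe, hk1 x (Subgroup.mem_sup_right hx), hg2 x hx]
        ext y
        constructor
        · rintro ⟨⟨z, hz'⟩, hz, rfl⟩
          obtain ⟨x, hx, rfl⟩ := hfU' z hz
          rw [hval2 x hx hz']
          exact hz
        · intro hy
          obtain ⟨x, hx, rfl⟩ := hfU' y hy
          exact ⟨⟨f x, Subgroup.mem_sup_right hy⟩, hy, hval2 x hx _⟩
    have hP'c : P' ≤ c i := by
      intro y hy
      obtain ⟨x, hx, rfl⟩ := (hP' y).1 hy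
      exact ((hC i x).1 (hP hx)).2
    have h3 := hcl i P' hP'c _ hmem ⟨f x, hfx⟩
    have h4 : (τ.comp (Subgroup.inclusion (le_sup_left : P' ≤ P' ⊔ U'))) ⟨f x, hfx⟩ = f (χ x) := by
      show τ ⟨f x, _⟩ = _
      rw [hτe, hk1 x (Subgroup.mem_sup_left x.2), hg1 x x.2]
    rwa [h4] at h3

end Cfsg.Agent.H35.HM
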